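/-
The parabolic of an isotropic point of a unitary group: Heisenberg radical and induced action.
-/
import Cfsg.Agent.Forms.UnitaryTransvections
import Cfsg.Agent.RepBounds.Unitary.Bound
import Cfsg.Agent.FusionSimple.Generic

set_option autoImplicit false

namespace CfsgLib.FusionSimple.PSU

open Matrix CfsgLib.RepBounds.Unit

variable {F : Type*} [Field F] [Fintype F] (C : ConjField F)

section general

variable {ι : Type*} [Fintype ι] [DecidableEq ι]

theorem eq_of_herm {u v : ι → F} (h : ∀ w, herm C u w = herm C v w) : u = v := by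
  by_contra hne
  obtain ⟨w, hw⟩ := exists_herm_eq C (sub_ne_zero.2 hne) 1
  have h1 : herm C (u - v) w = 0 := by rw [herm_sub_left, h, sub_self]
  rw [← conj_herm, hw, map_one] at h1
  exact one_ne_zero h1

theorem app_ne_zero (g : suG C ι) {v : ι → F} (hv : v ≠ 0) : app C g v ≠ 0 := fun h =>
  hv (by rw [← app_inv_app C g v, h]; simp [app])

/-- A unipotent element trivial on the point `v` and on the successive quotient of its perp. -/
def IsUniAt (v : ι → F) (x : suG C ι) : Prop :=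
  app C x v = v ∧ ∀ y, herm C y v = 0 → ∃ k : F, app C x y = y + k • v

/-- Root type elements. -/
def IsUniEl (x : suG C ι) : Prop := ∃ v, herm C v v = 0 ∧ v ≠ 0 ∧ IsUniAt C v x

theorem IsUniAt.conj {v : ι → F} {x : suG C ι} (h : IsUniAt C v x) (g : suG C ι) :
    IsUniAt C (app C g v) (g * x * g⁻¹) := by
  refine ⟨by rw [app_mul, app_mul, app_inv_app, h.1], fun y hy => ?_⟩
  obtain ⟨k, hk⟩ := h.2 (app C g⁻¹ y) (by rw [herm_app_left, hy])
  exact ⟨k, by rw [app_mul, app_mul, hk, app_add, app_smul, app_app_inv]⟩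

theorem IsUniEl.conj {x : suG C ι} (h : IsUniEl C x) (g : suG C ι) : IsUniEl C (g * x * g⁻¹) := by
  obtain ⟨v, hv, hv0, hx⟩ := h
  exact ⟨app C g v, by rw [herm_app, hv], app_ne_zero C g hv0, hx.conj C g⟩

theorem IsUniEl.reindex {κ : Type*} [Fintype κ] [DecidableEq κ] (e : ι ≃ κ) {x : suG C ι}
    (h : IsUniEl C x) : IsUniEl C (reindexHom C e x) := by
  obtain ⟨v, hv, hv0, hxv, hx⟩ := h
  refine ⟨v ∘ e.symm, (Equiv.sum_comp e.symm fun i => v i * C.σ (v i)).trans hv, fun h0 => hv0 ?_,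
    ?_, fun y hy => ?_⟩
  · funext i
    simpa using congrFun h0 (e i)
  · rw [app_reindexHom]
    simp [Function.comp_def]
    exact congrArg (fun z => fun i => z (e.symm i)) hxv
  · obtain ⟨k, hk⟩ := hx (y ∘ e) (by
      rw [← hy]
      unfold herm
      rw [← Equiv.sum_comp e (fun i => y i * C.σ ((v ∘ e.symm) i))]
      simp)
    refine ⟨k, ?_⟩
    rw [app_reindexHom, hk]
    ext i
    simp

/-- A transvection with nonzero coefficient determines its point. -/
theorem IsTransv.line_eq {g : suG C ι} {v v' : ι → F} {c c' : F} (h : IsTransv C g v c)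
    (h' : IsTransv C g v' c') (hc' : c' ≠ 0) (hv' : v' ≠ 0) : ∃ l : F, v' = l • v := by
  obtain ⟨x, hx⟩ := exists_herm_eq C hv' 1
  have h1 := (h x).symm.trans (h' x)
  rw [add_right_inj, hx, mul_one] at h1
  exact ⟨c'⁻¹ * (c * herm C x v), by rw [mul_smul, h1, inv_smul_smul₀ hc']⟩

theorem IsTransv.npow {g : suG C ι} {v : ι → F} {c : F} (hv : herm C v v = 0)
    (h : IsTransv C g v c) (n : ℕ) : IsTransv C (g ^ n) v ((n : F) * c) := by
  induction n with
  | zero => intro x; simp [app_one]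
  | succ n ih =>
    intro x
    rw [pow_succ, app_mul, h x, ih]
    simp only [herm_add_left, herm_smul_left, hv, mul_zero, add_zero]
    rw [Nat.cast_succ]
    module

theorem IsTransv.pow_char (p : ℕ) [CharP F p] {g : suG C ι} {v : ι → F} {c : F}
    (hv : herm C v v = 0) (h : IsTransv C g v c) : g ^ p = 1 :=
  suG_ext C fun x => by
    rw [IsTransv.npow C hv h p x, CharP.cast_eq_zero, app_one]
    simp

end general

section parabolic

variable {κ : Type*} [Fintype κ] [DecidableEq κ]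

local notation "ee" => vE C κ
local notation "ff" => vF C κ

theorem vE_ne : (ee : Fin 2 ⊕ κ → F) ≠ 0 := fun h => by
  have := herm_vE_vF C (κ := κ)
  rw [h, herm_zero_left] at this
  exact zero_ne_one this

theorem app_block_vE (l : suG C κ) : app C (blockHom C κ l) ee = ee := by
  rw [app_blockHom]; ext (i | i) <;> simp [vE, app]

theorem app_block_vF (l : suG C κ) : app C (blockHom C κ l) ff = ff := by
  rw [app_blockHom]; ext (i | i) <;> simp [vF, app]

theorem app_block_inW (l : suG C κ) (v : κ → F) :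
    app C (blockHom C κ l) (inW v) = inW (app C l v) := by
  rw [app_blockHom]; ext (i | i) <;> simp [inW, Function.comp_def]

theorem app_uniEl_inW (w : κ → F) (c : F) (hc : c + C.σ c + herm C w w = 0) (y : κ → F) :
    app C (uniEl C w c hc) (inW y) = inW y + (-herm C y w) • ee := by
  rw [app_uniEl, herm_inW_vE, herm_inW, zero_smul, add_zero, sub_eq_add_neg, neg_smul]

theorem app_prod_inW (w : κ → F) (c : F) (hc : c + C.σ c + herm C w w = 0) (l : suG C κ) (y : κ → F) :
    app C (uniEl C w c hc * blockHom C κ l) (inW y) =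
      inW (app C l y) + (-herm C (app C l y) w) • ee := by
  rw [app_mul, app_block_inW, app_uniEl_inW]

theorem inW_injective {u v : κ → F} (h : (inW u : Fin 2 ⊕ κ → F) = inW v) : u = v :=
  funext fun i => congrFun h (Sum.inr i)

theorem eq_of_inW_add {u v : κ → F} {a b : F} (h : inW u + a • ee = inW v + b • ee) :
    u = v ∧ a = b := by
  refine ⟨funext fun i => ?_, ?_⟩
  · simpa [inW, vE] using congrFun h (Sum.inr i)
  · simpa [inW, vE] using congrFun h (Sum.inl 0)

theorem herm_prod_inW (w : κ → F) (c : F) (hc : c + C.σ c + herm C w w = 0) (l : suG C κ)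
    (y y' : κ → F) :
    herm C (app C (uniEl C w c hc * blockHom C κ l) (inW y)) (inW y') = herm C (app C l y) y' := by
  rw [app_prod_inW, herm_add_left, herm_smul_left, herm_inW, herm_vE_inW, mul_zero, add_zero]

/-- The shifted inverse of a Heisenberg element. -/
theorem uniEl_inv {w : κ → F} {c : F} (hc : c + C.σ c + herm C w w = 0) :
    ∃ hc' : C.σ c + C.σ (C.σ c) + herm C (-w) (-w) = 0,
      (uniEl C w c hc)⁻¹ = uniEl C (-w) (C.σ c) hc' := by
  refine ⟨by rw [C.invol, herm_neg_left, herm_neg_right, neg_neg]; linear_combination hc, ?_⟩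
  refine inv_eq_of_mul_eq_one_right ?_
  rw [uniEl_mul, ← uniEl_zero C]
  exact uniEl_congr C _ _ (add_neg_cancel w) (by rw [herm_neg_left]; linear_combination hc)

/-- The Heisenberg radical. -/
noncomputable def qGrp : Subgroup (suG C (Fin 2 ⊕ κ)) where
  carrier := {g | ∃ (w : κ → F) (c : F) (hc : c + C.σ c + herm C w w = 0), g = uniEl C w c hc}
  one_mem' := ⟨0, 0, by simp [herm_zero_left], (uniEl_zero C).symm⟩
  mul_mem' := by
    rintro _ _ ⟨w, c, hc, rfl⟩ ⟨w', c', hc', rfl⟩
    exact ⟨_, _, _, uniEl_mul C hc hc'⟩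
  inv_mem' := by
    rintro _ ⟨w, c, hc, rfl⟩
    obtain ⟨hc', e⟩ := uniEl_inv C hc
    exact ⟨_, _, _, e⟩

theorem uniEl_mem_qGrp (w : κ → F) (c : F) (hc : c + C.σ c + herm C w w = 0) :
    uniEl C w c hc ∈ qGrp C (κ := κ) := ⟨w, c, hc, rfl⟩

theorem block_conj_uniEl (l : suG C κ) (w : κ → F) (c : F) (hc : c + C.σ c + herm C w w = 0) :
    ∃ hc' : c + C.σ c + herm C (app C l w) (app C l w) = 0,
      blockHom C κ l * uniEl C w c hc * (blockHom C κ l)⁻¹ = uniEl C (app C l w) c hc' :=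
  ⟨by rw [herm_app]; exact hc, by rw [blockHom_uniEl, mul_inv_cancel_right]⟩

/-- The stabilizer of `e` normalizes the radical. -/
theorem conj_qGrp {g x : suG C (Fin 2 ⊕ κ)} (hg : app C g ee = ee) (hx : x ∈ qGrp C (κ := κ)) :
    g * x * g⁻¹ ∈ qGrp C (κ := κ) := by
  obtain ⟨w, c, hc, l, rfl⟩ := exists_eq_uniEl_mul C g hg
  obtain ⟨w', c', hc', rfl⟩ := hx
  rw [show uniEl C w c hc * blockHom C κ l * uniEl C w' c' hc' *
      (uniEl C w c hc * blockHom C κ l)⁻¹ =
    uniEl C w c hc * (blockHom C κ l * uniEl C w' c' hc' * (blockHom C κ l)⁻¹) *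
      (uniEl C w c hc)⁻¹ by group]
  obtain ⟨_, e⟩ := block_conj_uniEl C l w' c' hc'
  rw [e]
  exact mul_mem (mul_mem (uniEl_mem_qGrp C _ _ _) (uniEl_mem_qGrp C _ _ _))
    (inv_mem (uniEl_mem_qGrp C _ _ _))

/-- The preimage of a subgroup of the induced group in the stabilizer of `e`. -/
noncomputable def sylG (V : Subgroup (suG C κ)) : Subgroup (suG C (Fin 2 ⊕ κ)) where
  carrier := {g | ∃ (w : κ → F) (c : F) (hc : c + C.σ c + herm C w w = 0), ∃ l ∈ V,
    g = uniEl C w c hc * blockHom C κ l}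
  one_mem' := ⟨0, 0, by simp [herm_zero_left], 1, one_mem V,
    by rw [map_one, mul_one, uniEl_zero C]⟩
  mul_mem' := by
    rintro _ _ ⟨w, c, hc, l, hl, rfl⟩ ⟨w', c', hc', l', hl', rfl⟩
    refine ⟨_, _, uniEl_valid_mul C hc (by rw [herm_app]; exact hc' :
      c' + C.σ c' + herm C (app C l w') (app C l w') = 0), l * l', mul_mem hl hl', ?_⟩
    rw [map_mul, mul_assoc, ← mul_assoc (blockHom C κ l), blockHom_uniEl, ← mul_assoc, ← mul_assoc,
      uniEl_mul, mul_assoc]
  inv_mem' := by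
    rintro _ ⟨w, c, hc, l, hl, rfl⟩
    obtain ⟨hc', e⟩ := uniEl_inv C hc
    refine ⟨_, _, (by rw [herm_app]; exact hc' :
      C.σ c + C.σ (C.σ c) + herm C (app C l⁻¹ (-w)) (app C l⁻¹ (-w)) = 0), l⁻¹, inv_mem hl, ?_⟩
    rw [_root_.mul_inv_rev, ← map_inv, e, blockHom_uniEl]

theorem uniEl_mem_sylG (V : Subgroup (suG C κ)) (w : κ → F) (c : F)
    (hc : c + C.σ c + herm C w w = 0) : uniEl C w c hc ∈ sylG C V :=
  ⟨w, c, hc, 1, one_mem V, by rw [map_one, mul_one]⟩

theorem block_mem_sylG {V : Subgroup (suG C κ)} {l : suG C κ} (hl : l ∈ V) :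
    blockHom C κ l ∈ sylG C V :=
  ⟨0, 0, by simp [herm_zero_left], l, hl, by rw [uniEl_zero, one_mul]⟩

theorem qGrp_le_sylG (V : Subgroup (suG C κ)) : qGrp C (κ := κ) ≤ sylG C V := by
  rintro _ ⟨w, c, hc, rfl⟩
  exact uniEl_mem_sylG C V w c hc

theorem app_vE_of_mem {V : Subgroup (suG C κ)} {x : suG C (Fin 2 ⊕ κ)} (hx : x ∈ sylG C V) :
    app C x ee = ee := by
  obtain ⟨w, c, hc, l, -, rfl⟩ := hx
  rw [app_mul, app_block_vE, app_uniEl_vE]

/-- Membership by the action. -/
theorem mem_sylG_iff {V : Subgroup (suG C κ)} {x : suG C (Fin 2 ⊕ κ)} :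
    x ∈ sylG C V ↔ app C x ee = ee ∧
      ∃ v ∈ V, ∀ y y', herm C (app C x (inW y)) (inW y') = herm C (app C v y) y' := by
  constructor
  · intro hx
    refine ⟨app_vE_of_mem C hx, ?_⟩
    obtain ⟨w, c, hc, l, hl, rfl⟩ := hx
    exact ⟨l, hl, herm_prod_inW C w c hc l⟩
  · rintro ⟨he, v, hv, h⟩
    obtain ⟨w, c, hc, l, rfl⟩ := exists_eq_uniEl_mul C x he
    have hlv : l = v := suG_ext C fun y => eq_of_herm C fun y' => by rw [← herm_prod_inW C w c hc l, h]
    exact ⟨w, c, hc, l, hlv ▸ hv, rfl⟩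

/-- An element of `IsUniAt e` lies in the radical. -/
theorem mem_qGrp_of_isUniAt {x : suG C (Fin 2 ⊕ κ)} (hx : IsUniAt C ee x) :
    x ∈ qGrp C (κ := κ) := by
  obtain ⟨w, c, hc, l, rfl⟩ := exists_eq_uniEl_mul C x hx.1
  have hl : l = 1 := suG_ext C fun y => by
    obtain ⟨k, hk⟩ := hx.2 (inW y) (herm_inW_vE C y)
    rw [app_prod_inW] at hk
    rw [app_one]
    exact (eq_of_inW_add C hk).1
  rw [hl, map_one, mul_one]
  exact uniEl_mem_qGrp C w c hc

theorem isUniAt_of_mem_qGrp {x : suG C (Fin 2 ⊕ κ)} (hx : x ∈ qGrp C (κ := κ)) :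
    IsUniAt C ee x := by
  obtain ⟨w, c, hc, rfl⟩ := hx
  refine ⟨app_uniEl_vE C w c hc, fun y hy => ⟨-herm C y (inW w), ?_⟩⟩
  rw [app_uniEl, hy, zero_smul, add_zero, sub_eq_add_neg, neg_smul]

theorem IsUniEl.block {l : suG C κ} (h : IsUniEl C l) : IsUniEl C (blockHom C κ l) := by
  obtain ⟨v, hv, hv0, hlv, hl⟩ := h
  refine ⟨inW v, by rw [herm_inW, hv],
    fun h0 => hv0 (inW_injective (h0.trans (inW_zero (κ := κ)).symm)),
    by rw [app_block_inW, hlv], fun y hy => ?_⟩
  obtain ⟨k, hk⟩ := hl (y ∘ Sum.inr) (by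
    rw [← hy]
    simp [herm, inW, Fintype.sum_sum_type])
  refine ⟨k, ?_⟩
  rw [app_blockHom, hk]
  ext (i | i) <;> simp [inW]

variable {V : Subgroup (suG C κ)}

/-- An element of the group centralizing the radical is central in the radical. -/
theorem eq_central_of_commute {z : suG C (Fin 2 ⊕ κ)} (hz : z ∈ sylG C V)
    (h : ∀ u ∈ qGrp C (κ := κ), u * z = z * u) :
    ∃ (d : F) (hd : d ∈ C.skew), z = uniEl C (0 : κ → F) d (skew_valid C hd) := by
  obtain ⟨w, c, hc, l, -, rfl⟩ := hz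
  have hvalid : ∀ w' : κ → F, ∃ c', c' + C.σ c' + herm C w' w' = 0 := fun w' =>
    ⟨-(herm C w' w' * tA C), by
      rw [map_neg, map_mul, herm_self_fixed]
      linear_combination (-herm C w' w') * tA_spec C⟩
  have key : ∀ w' : κ → F, app C l w' = w' ∧ herm C w (w') = herm C w' w := by
    intro w'
    obtain ⟨c', hc'⟩ := hvalid w'
    have h1 := h _ (uniEl_mem_qGrp C w' c' hc')
    rw [mul_assoc (uniEl C w c hc) (blockHom C κ l), blockHom_uniEl, ← mul_assoc, ← mul_assoc,
      uniEl_mul, uniEl_mul] at h1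
    have h2 := mul_right_cancel h1
    have e0 := congrArg (fun g => app C g ff) h2
    simp only [app_uniEl_vF, add_assoc, add_right_inj] at e0
    obtain ⟨e1, e2⟩ := eq_of_inW_add C e0
    have hl' : app C l w' = w' := add_left_cancel (e1.symm.trans (add_comm w' w))
    rw [hl'] at e2
    exact ⟨hl', by linear_combination -e2⟩
  have hl : l = 1 := suG_ext C fun y => (key y).1.trans (app_one C y).symm
  have hw : w = 0 := by
    by_contra hw0
    obtain ⟨b, hb⟩ : ∃ b, C.σ b ≠ b := by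
      by_contra h
      push Not at h
      exact C.ne_id (RingHom.ext h)
    obtain ⟨v, hv⟩ := exists_herm_eq C hw0 b
    have h2 := (key v).2
    rw [← conj_herm, hv] at h2
    exact hb h2
  subst hw
  rw [herm_zero_left, add_zero] at hc
  exact ⟨c, hc, by rw [hl, map_one, mul_one]⟩

end parabolic

end CfsgLib.FusionSimple.PSU
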