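/-
Sylow subgroups of unitary groups: built from the induced group, generated by root type elements.
-/
import Cfsg.Agent.FusionSimple.PSU.Basic

set_option autoImplicit false

namespace CfsgLib.FusionSimple.PSU

open Matrix CfsgLib.RepBounds.Unit

variable {F : Type*} [Field F] [Fintype F] (C : ConjField F) (p : ℕ) [hp : Fact p.Prime] [CharP F p]

variable {κ : Type*} [Fintype κ] [DecidableEq κ]

local notation "ee" => vE C κ
local notation "ff" => vF C κ

omit hp in
theorem uniEl_pow_char (w : κ → F) (c : F) (hc : c + C.σ c + herm C w w = 0) :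
    uniEl C w c hc ^ (p * p) = 1 := by
  have h : ∀ n : ℕ, ∃ (c' : F) (hc' : c' + C.σ c' + herm C ((n : F) • w) ((n : F) • w) = 0),
      uniEl C w c hc ^ n = uniEl C ((n : F) • w) c' hc' := by
    intro n
    induction n with
    | zero =>
      refine ⟨0, by simp [herm_zero_left], ?_⟩
      rw [pow_zero, ← uniEl_zero C]
      exact uniEl_congr C _ _ (by simp) rfl
    | succ n ih =>
      obtain ⟨c', hc', e⟩ := ih
      refine ⟨c' + c - herm C w ((n : F) • w), ?_, ?_⟩
      · rw [Nat.cast_succ, add_smul, one_smul]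
        exact uniEl_valid_mul C hc' hc
      · rw [pow_succ, e, uniEl_mul]
        exact uniEl_congr C _ _ (by rw [Nat.cast_succ, add_smul, one_smul]) rfl
  obtain ⟨c', hc', e⟩ := h p
  have hd : c' ∈ C.skew := by
    rw [C.mem_skew]
    simpa [herm_zero_left] using hc'
  have e' : uniEl C w c hc ^ p = uniEl C (0 : κ → F) c' (skew_valid C hd) :=
    e.trans (uniEl_congr C _ _ (by simp) rfl)
  rw [pow_mul, e']
  exact IsTransv.pow_char C p (herm_vE_vE C) (isTransv_central C hd)

omit hp [CharP F p] in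
theorem prod_pow {V : Subgroup (suG C κ)} {l : suG C κ} (hl : l ∈ V) (w : κ → F) (c : F)
    (hc : c + C.σ c + herm C w w = 0) (n : ℕ) :
    ∃ u ∈ qGrp C (κ := κ), (uniEl C w c hc * blockHom C κ l) ^ n = u * blockHom C κ (l ^ n) := by
  induction n with
  | zero => exact ⟨1, one_mem _, by simp⟩
  | succ n ih =>
    obtain ⟨u, hu, e⟩ := ih
    refine ⟨u * (blockHom C κ (l ^ n) * uniEl C w c hc * (blockHom C κ (l ^ n))⁻¹),
      mul_mem hu (conj_qGrp C (app_block_vE C _) (uniEl_mem_qGrp C w c hc)), ?_⟩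
    rw [pow_succ, e, pow_succ l, map_mul]
    group

theorem isPGroup_sylG {V : Subgroup (suG C κ)} (hV : IsPGroup p V) : IsPGroup p (sylG C V) := by
  rintro ⟨x, w, c, hc, l, hl, rfl⟩
  obtain ⟨k, hk⟩ := hV ⟨l, hl⟩
  have hk' : l ^ p ^ k = 1 := congrArg Subtype.val hk
  obtain ⟨u, ⟨w', c', hc', rfl⟩, e⟩ := prod_pow C hl w c hc (p ^ k)
  refine ⟨k + 2, Subtype.ext ?_⟩
  show (uniEl C w c hc * blockHom C κ l) ^ p ^ (k + 2) = 1
  rw [pow_add, pow_mul, e, hk', map_one, mul_one, pow_two]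
  exact uniEl_pow_char C p w' c' hc'

omit hp [CharP F p] in
/-- An element normalizing the group fixes the point `e`. -/
theorem line_of_normalizer {V : Subgroup (suG C κ)} {y : suG C (Fin 2 ⊕ κ)}
    (hy : y ∈ Subgroup.normalizer ((sylG C V : Subgroup _) : Set (suG C (Fin 2 ⊕ κ)))) :
    ∃ a : F, a ≠ 0 ∧ app C y ee = a • ee := by
  obtain ⟨δ, hδ, hδ0⟩ := C.exists_skew_ne
  set z := uniEl C (0 : κ → F) δ (skew_valid C hδ)
  have hz : ∀ u ∈ sylG C V, u * z = z * u := by
    intro u hu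
    have h := (isTransv_central C hδ).conj C u
    rw [app_vE_of_mem C hu] at h
    exact mul_inv_eq_iff_eq_mul.1 (h.unique C (isTransv_central C hδ))
  have hzm : y * z * y⁻¹ ∈ sylG C V :=
    (Subgroup.mem_normalizer_iff.1 hy z).1 (uniEl_mem_sylG C V _ _ _)
  have hc : ∀ u ∈ qGrp C (κ := κ), u * (y * z * y⁻¹) = (y * z * y⁻¹) * u := by
    intro u hu
    have h' : y⁻¹ * u * y⁻¹⁻¹ ∈ sylG C V :=
      (Subgroup.mem_normalizer_iff.1 (inv_mem hy) u).1 (qGrp_le_sylG C V hu)
    rw [inv_inv] at h'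
    have h2 := hz _ h'
    calc u * (y * z * y⁻¹) = y * ((y⁻¹ * u * y) * z) * y⁻¹ := by group
      _ = y * (z * (y⁻¹ * u * y)) * y⁻¹ := by rw [h2]
      _ = (y * z * y⁻¹) * u := by group
  obtain ⟨d, hd, e⟩ := eq_central_of_commute C hzm hc
  have h1 : IsTransv C (y * z * y⁻¹) (app C y ee) δ := (isTransv_central C hδ).conj C y
  have h2 : IsTransv C (y * z * y⁻¹) ee d := e ▸ isTransv_central C hd
  obtain ⟨a, ha⟩ := IsTransv.line_eq C h2 h1 hδ0 (app_ne_zero C y (vE_ne C))
  refine ⟨a, fun h0 => app_ne_zero C y (vE_ne C) ?_, ha⟩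
  rw [ha, h0, zero_smul]

/-- The Sylow subgroup built from one of the induced group. -/
noncomputable def sylU (V : Sylow p (suG C κ)) : Sylow p (suG C (Fin 2 ⊕ κ)) where
  toSubgroup := sylG C (V : Subgroup (suG C κ))
  isPGroup' := isPGroup_sylG C p V.isPGroup'
  is_maximal' := by
    intro P hP hle
    by_contra hne
    set U := sylG C (V : Subgroup (suG C κ))
    have : Group.IsNilpotent P := hP.isNilpotent
    have hlt : U.subgroupOf P < ⊤ :=
      lt_of_le_of_ne le_top fun h => hne (le_antisymm (Subgroup.subgroupOf_eq_top.1 h) hle)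
    obtain ⟨⟨y, hyP⟩, hyN, hyU⟩ := SetLike.exists_of_lt
      (Group.normalizerCondition_of_isNilpotent (U.subgroupOf P) hlt)
    have hyN' : y ∈ Subgroup.normalizer ((U : Subgroup _) : Set _) := by
      rw [Subgroup.mem_normalizer_iff]
      intro h
      refine ⟨fun hh => (Subgroup.mem_normalizer_iff.1 hyN ⟨h, hle hh⟩).1 hh, fun hh => ?_⟩
      have h2 := P.mul_mem (P.mul_mem (P.inv_mem hyP) (hle hh)) hyP
      have h3 : h ∈ P := by simpa [mul_assoc] using h2
      exact (Subgroup.mem_normalizer_iff.1 hyN ⟨h, h3⟩).2 hh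
    obtain ⟨a, -, ha⟩ := line_of_normalizer C hyN'
    obtain ⟨k, hk⟩ := hP ⟨y, hyP⟩
    have hk' : y ^ p ^ k = 1 := congrArg Subtype.val hk
    have hpow : ∀ n : ℕ, app C (y ^ n) ee = a ^ n • ee := fun n => by
      induction n with
      | zero => simp [app_one]
      | succ n ih => rw [pow_succ, app_mul, ha, app_smul, ih, smul_smul, pow_succ']
    have hak : a ^ p ^ k = 1 := by
      have h := hpow (p ^ k)
      rw [hk', app_one] at h
      have h2 := congrArg (fun z => herm C z ff) h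
      simpa [herm_smul_left, herm_vE_vF] using h2.symm
    have ha1 : a = 1 := iterateFrobenius_inj F p k (by simp [iterateFrobenius_def, hak])
    rw [ha1, one_smul] at ha
    obtain ⟨w, c, hc, l, rfl⟩ := exists_eq_uniEl_mul C y ha
    refine hyU (show uniEl C w c hc * blockHom C κ l ∈ U from ⟨w, c, hc, l, ?_, rfl⟩)
    -- `l` is a `p`-element normalizing `V`
    have hblN : blockHom C κ l ∈ Subgroup.normalizer ((U : Subgroup _) : Set _) := by
      have hu : uniEl C w c hc ∈ Subgroup.normalizer ((U : Subgroup _) : Set _) :=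
        Subgroup.le_normalizer (uniEl_mem_sylG C _ w c hc)
      have := mul_mem (inv_mem hu) hyN'
      rwa [inv_mul_cancel_left] at this
    have hblP : blockHom C κ l ∈ P := by
      have := mul_mem (inv_mem (hle (uniEl_mem_sylG C (V : Subgroup _) w c hc))) hyP
      rwa [inv_mul_cancel_left] at this
    have hblk : ∀ {v : suG C κ}, blockHom C κ v ∈ U → v ∈ (V : Subgroup (suG C κ)) := by
      intro v hv
      obtain ⟨-, v', hv', h⟩ := (mem_sylG_iff C).1 hv
      have : v = v' := suG_ext C fun z => eq_of_herm C fun z' => by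
        rw [← h, app_block_inW, herm_inW]
      rw [this]
      exact hv'
    have hlN : l ∈ Subgroup.normalizer ((V : Subgroup (suG C κ)) : Set _) := by
      rw [Subgroup.mem_normalizer_iff]
      refine fun v => ⟨fun hv => hblk ?_, fun hv => ?_⟩
      · rw [map_mul, map_mul, map_inv]
        exact (Subgroup.mem_normalizer_iff.1 hblN _).1 (block_mem_sylG C hv)
      · have h1 := (Subgroup.mem_normalizer_iff.1 hblN (blockHom C κ v)).2
          (by rw [← map_inv, ← map_mul, ← map_mul]; exact block_mem_sylG C hv)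
        exact hblk h1
    obtain ⟨j, hj⟩ := hP ⟨_, hblP⟩
    have hlp : IsPGroup p (Subgroup.zpowers l) := by
      have hj' : l ^ p ^ j = 1 := by
        have h := congrArg Subtype.val hj
        refine suG_ext C fun z => inW_injective (κ := κ) ?_
        rw [← app_block_inW, map_pow]
        show app C ((blockHom C κ l) ^ p ^ j) (inW z) = _
        rw [show (blockHom C κ l) ^ p ^ j = 1 from h, app_one, app_one]
      rintro ⟨z, n, rfl⟩
      refine ⟨j, Subtype.ext ?_⟩
      show (l ^ n) ^ p ^ j = 1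
      rw [← zpow_natCast (l ^ n), ← _root_.zpow_mul, mul_comm, _root_.zpow_mul, zpow_natCast, hj',
        _root_.one_zpow]
    exact ((hlp.inf_normalizer_sylow V).le ⟨Subgroup.mem_zpowers l, hlN⟩).2

theorem coe_sylU (V : Sylow p (suG C κ)) :
    ((sylU C p V : Sylow p _) : Subgroup _) = sylG C (V : Subgroup (suG C κ)) := rfl

omit hp [CharP F p] in
theorem isUniEl_of_mem_qGrp {x : suG C (Fin 2 ⊕ κ)} (hx : x ∈ qGrp C (κ := κ)) : IsUniEl C x :=
  ⟨ee, herm_vE_vE C, vE_ne C, isUniAt_of_mem_qGrp C hx⟩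

omit hp [CharP F p] in
theorem sylG_le_closure {V : Subgroup (suG C κ)}
    (hV : V ≤ Subgroup.closure {l | l ∈ V ∧ IsUniEl C l}) :
    sylG C V ≤ Subgroup.closure {x | x ∈ sylG C V ∧ IsUniEl C x} := by
  rintro _ ⟨w, c, hc, l, hl, rfl⟩
  refine mul_mem (Subgroup.subset_closure
    ⟨uniEl_mem_sylG C V w c hc, isUniEl_of_mem_qGrp C (uniEl_mem_qGrp C w c hc)⟩) ?_
  have h := Subgroup.mem_map_of_mem (blockHom C κ) (hV hl)
  rw [MonoidHom.map_closure] at h
  refine Subgroup.closure_mono ?_ h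
  rintro _ ⟨v, ⟨hv, hu⟩, rfl⟩
  exact ⟨block_mem_sylG C hv, IsUniEl.block C hu⟩

omit [CharP F p] in
theorem generated_of_one {ι : Type*} [Fintype ι] [DecidableEq ι] (U : Sylow p (suG C ι))
    (hU : (U : Subgroup (suG C ι)) ≤ Subgroup.closure {x | x ∈ (U : Subgroup _) ∧ IsUniEl C x})
    (S : Sylow p (suG C ι)) :
    (S : Subgroup (suG C ι)) ≤ Subgroup.closure {x | x ∈ (S : Subgroup _) ∧ IsUniEl C x} := by
  obtain ⟨g, rfl⟩ := MulAction.exists_smul_eq (suG C ι) U S
  rw [Sylow.coe_subgroup_smul]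
  rintro _ ⟨u, hu, rfl⟩
  have h := Subgroup.mem_map_of_mem (MulAut.conj g).toMonoidHom (hU hu)
  rw [MonoidHom.map_closure] at h
  refine Subgroup.closure_mono ?_ h
  rintro _ ⟨v, ⟨hv, hx⟩, rfl⟩
  exact ⟨⟨v, hv, rfl⟩, IsUniEl.conj C hx g⟩

/-- Every Sylow subgroup is generated by root type elements. -/
theorem sylow_generated (n : ℕ) (S : Sylow p (suG C (Fin n))) :
    (S : Subgroup (suG C (Fin n))) ≤
      Subgroup.closure {x | x ∈ (S : Subgroup _) ∧ IsUniEl C x} := by
  induction n using Nat.strong_induction_on with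
  | _ n ih =>
  rcases Nat.lt_or_ge n 2 with hn | hn
  · have : Subsingleton (Fin n) := Fin.subsingleton_iff_le_one.mpr (by omega)
    intro g _
    rw [eq_one_of_subsingleton C g]
    exact one_mem _
  obtain ⟨m, rfl⟩ : ∃ m, n = 2 + m := ⟨n - 2, by omega⟩
  let V : Sylow p (suG C (Fin m)) := default
  let e := (finSumFinEquiv : Fin 2 ⊕ Fin m ≃ Fin (2 + m))
  have hinv : ∀ g, reindexHom C e (reindexHom C e.symm g) = g := fun g => suG_ext C fun x => by
    rw [app_reindexHom, app_reindexHom]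
    simp [Function.comp_def]
  have hsurj : Function.Surjective (reindexHom C e) := fun g => ⟨_, hinv g⟩
  refine generated_of_one C p ((sylU C p V).mapSurjective hsurj) ?_ S
  rintro _ ⟨u, hu, rfl⟩
  have h := Subgroup.mem_map_of_mem (reindexHom C e)
    (sylG_le_closure C (ih m (by omega) V) hu)
  rw [MonoidHom.map_closure] at h
  refine Subgroup.closure_mono ?_ h
  rintro _ ⟨v, ⟨hv, hx⟩, rfl⟩
  exact ⟨⟨v, hv, rfl⟩, IsUniEl.reindex C e hx⟩

/-- Central `p`-elements are trivial. -/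
theorem eq_one_of_central {z : suG C (Fin 2 ⊕ κ)} (hz : z ∈ Subgroup.center (suG C (Fin 2 ⊕ κ)))
    (hk : ∃ k : ℕ, z ^ p ^ k = 1) : z = 1 := by
  let V : Sylow p (suG C κ) := default
  have hzp : IsPGroup p (Subgroup.zpowers z) := by
    obtain ⟨j, hj⟩ := hk
    rintro ⟨x, n, rfl⟩
    refine ⟨j, Subtype.ext ?_⟩
    show (z ^ n) ^ p ^ j = 1
    rw [← zpow_natCast (z ^ n), ← _root_.zpow_mul, mul_comm, _root_.zpow_mul, zpow_natCast, hj,
      _root_.one_zpow]
  have hzN : z ∈ Subgroup.normalizer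
      (((sylU C p V : Sylow p _) : Subgroup (suG C (Fin 2 ⊕ κ))) : Set (suG C (Fin 2 ⊕ κ))) :=
    Subgroup.center_le_normalizer _ hz
  have hzU : z ∈ sylG C (V : Subgroup (suG C κ)) :=
    ((hzp.inf_normalizer_sylow (sylU C p V)).le ⟨Subgroup.mem_zpowers z, hzN⟩).2
  obtain ⟨d, hd, rfl⟩ := eq_central_of_commute C hzU fun u _ => Subgroup.mem_center_iff.1 hz u
  obtain ⟨δ, hδ, hδ0⟩ := C.exists_skew_ne
  have h := (isTransv_transvEl C ff δ (herm_vF_vF C) hδ).conj C (uniEl C (0 : κ → F) d (skew_valid C hd))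
  rw [mul_inv_eq_iff_eq_mul.2 (Subgroup.mem_center_iff.1 hz _).symm] at h
  obtain ⟨l, hl⟩ := IsTransv.line_eq C (isTransv_transvEl C ff δ (herm_vF_vF C) hδ) h hδ0
    (app_ne_zero C _ (fun h0 => by
      have := herm_vF_vE C (κ := κ)
      rw [h0, herm_zero_left] at this
      exact zero_ne_one this))
  rw [app_uniEl_vF, inW_zero, add_zero] at hl
  have h2 := congrArg (fun x => herm C x ff) hl
  simp only [herm_add_left, herm_smul_left, herm_vE_vF, herm_vF_vF, mul_zero, mul_one,
    zero_add] at h2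
  subst h2
  exact uniEl_zero C

end CfsgLib.FusionSimple.PSU
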