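/-
Closed subgroups of the Sylow subgroup of a unitary group.
-/
import Cfsg.Agent.FusionSimple.PSU.Sylow
import Cfsg.Agent.FusionSimple.Central

set_option autoImplicit false

namespace CfsgLib.FusionSimple.PSU

open Matrix CfsgLib.RepBounds.Unit

variable {F : Type*} [Field F] [Fintype F] (C : ConjField F) (p : ℕ) [hp : Fact p.Prime] [CharP F p]

variable {μ : Type*} [Fintype μ] [DecidableEq μ]


/-- The second isotropic point. -/
noncomputable def e2 (μ : Type*) [Fintype μ] [DecidableEq μ] : Fin 2 ⊕ (Fin 2 ⊕ μ) → F :=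
  inW (vE C μ)

/-- The double embedding. -/
def ii (y : μ → F) : Fin 2 ⊕ (Fin 2 ⊕ μ) → F := inW (inW y)

variable (V : Sylow p (suG C μ))

/-- The Sylow subgroup. -/
noncomputable def U2 : Subgroup (suG C (Fin 2 ⊕ (Fin 2 ⊕ μ))) := sylG C (sylG C (V : Subgroup (suG C μ)))

theorem coe_sylU2 : ((sylU C p (sylU C p V) : Sylow p _) : Subgroup _) = U2 C p V := rfl

omit [CharP F p] in
theorem transv_e2_mem {δ : F} (hδ : δ ∈ C.skew) :
    blockHom C (Fin 2 ⊕ μ) (uniEl C (0 : μ → F) δ (skew_valid C hδ)) ∈ U2 C p V :=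
  block_mem_sylG C (uniEl_mem_sylG C _ _ _ _)

section closed

variable {T : Subgroup (suG C (Fin 2 ⊕ (Fin 2 ⊕ μ)))} (hT : Closed (U2 C p V) T)

/-- The vectors of the radical elements in `T`. -/
noncomputable def vecIn (T : Subgroup (suG C (Fin 2 ⊕ (Fin 2 ⊕ μ)))) : AddSubgroup ((Fin 2 ⊕ μ) → F) where
  carrier := {w | ∃ (c : F) (hc : c + C.σ c + herm C w w = 0), uniEl C w c hc ∈ T}
  zero_mem' := ⟨0, by simp [herm_zero_left], by rw [uniEl_zero]; exact one_mem _⟩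
  add_mem' := by
    rintro w w' ⟨c, hc, h⟩ ⟨c', hc', h'⟩
    exact ⟨_, uniEl_valid_mul C hc hc', by rw [← uniEl_mul C hc hc']; exact mul_mem h h'⟩
  neg_mem' := by
    rintro w ⟨c, hc, h⟩
    obtain ⟨hc', e⟩ := uniEl_inv C hc
    exact ⟨C.σ c, hc', e ▸ inv_mem h⟩

include hT in
theorem transv_mem {d : F} (hd : d ∈ C.skew) (hdT : uniEl C (0 : (Fin 2 ⊕ μ) → F) d (skew_valid C hd) ∈ T)
    {g : suG C (Fin 2 ⊕ (Fin 2 ⊕ μ))} {v : Fin 2 ⊕ (Fin 2 ⊕ μ) → F} (hg : IsTransv C g v d) (hv : herm C v v = 0)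
    (hv0 : v ≠ 0) (hgU : g ∈ U2 C p V) : g ∈ T := by
  obtain ⟨k, hk⟩ := exists_conj_central C hg hv hv0 hd
  have he : k⁻¹ * uniEl C (0 : (Fin 2 ⊕ μ) → F) d (skew_valid C hd) * k⁻¹⁻¹ = g := by
    rw [← hk]; group
  rw [← he]
  exact hT.2 _ hdT _ (he.symm ▸ hgU)

include hT in
theorem all_central_mem {d : F} (hd : d ∈ C.skew) (hd0 : d ≠ 0)
    (hdT : uniEl C (0 : (Fin 2 ⊕ μ) → F) d (skew_valid C hd) ∈ T) {d' : F} (hd' : d' ∈ C.skew) :
    uniEl C (0 : (Fin 2 ⊕ μ) → F) d' (skew_valid C hd') ∈ T := by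
  by_cases hz : d' = 0
  · subst hz
    rw [uniEl_zero C]
    exact one_mem T
  have hfix : C.σ (d' / d) = d' / d := by
    rw [map_div₀, C.skew_eq hd, C.skew_eq hd', neg_div_neg_eq]
  obtain ⟨a, ha⟩ := CfsgLib.Forms.exists_mul_involution_eq C.ne_id C.invol (c := d' / d) hfix
  have ha0 : a ≠ 0 := by
    rintro rfl
    rw [zero_mul, eq_comm, div_eq_zero_iff] at ha
    exact ha.elim hz hd0
  have hiso : herm C (a • vE C (Fin 2 ⊕ μ)) (a • vE C (Fin 2 ⊕ μ)) = 0 := by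
    simp [herm_smul_left, herm_smul_right, herm_vE_vE]
  obtain ⟨t, -, ht⟩ := exists_to_vE C hiso (smul_ne_zero ha0 (vE_ne C))
  have h : IsTransv C (t⁻¹ * uniEl C (0 : (Fin 2 ⊕ μ) → F) d (skew_valid C hd) * t⁻¹⁻¹) (vE C (Fin 2 ⊕ μ)) d' := by
    intro x
    rw [(isTransv_central C hd).conj C t⁻¹ x,
      show app C t⁻¹ (vE C (Fin 2 ⊕ μ)) = a • vE C (Fin 2 ⊕ μ) from (congrArg (app C t⁻¹) ht).symm.trans (app_inv_app C _ _), herm_smul_right, smul_smul]
    have hda : a * C.σ a * d = d' := by rw [ha, div_mul_cancel₀ _ hd0]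
    rw [← hda]
    ring_nf
  have he := h.unique C (isTransv_central C hd')
  rw [← he]
  exact hT.2 _ hdT _ (he.symm ▸ uniEl_mem_sylG C _ _ _ _)

include hT in
theorem smul_e_mem (hall : ∀ {d : F} (hd : d ∈ C.skew),
    uniEl C (0 : (Fin 2 ⊕ μ) → F) d (skew_valid C hd) ∈ T) (a : F) : a • vE C μ ∈ vecIn C T := by
  by_cases ha : a = 0
  · rw [ha, zero_smul]
    exact zero_mem _
  obtain ⟨δ, hδ, hδ0⟩ := C.exists_skew_ne
  set w := a • vE C μ
  have hw : herm C w w = 0 := by simp [w, herm_smul_left, herm_smul_right, herm_vE_vE]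
  have hc : -δ⁻¹ + C.σ (-δ⁻¹) + herm C w w = 0 := by
    rw [hw, add_zero]; exact neg_mem (C.inv_mem hδ)
  have hsd : a * C.σ a * δ ∈ C.skew := by
    rw [C.mem_skew, map_mul, map_mul, C.invol, C.skew_eq hδ]; ring
  have hinner : IsTransv C (blockHom C (Fin 2 ⊕ μ) (uniEl C (0 : μ → F) (a * C.σ a * δ) (skew_valid C hsd)))
      (inW w) δ := by
    intro x
    rw [(isTransv_central C hsd).blockHom C x]
    simp only [w, inW_smul, herm_smul_right, smul_smul]
    ring_nf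
  have hv : herm C ((-δ⁻¹) • vE C (Fin 2 ⊕ μ) + inW w) ((-δ⁻¹) • vE C (Fin 2 ⊕ μ) + inW w) = 0 := by
    simp only [herm_add_left, herm_add_right, herm_smul_left, herm_smul_right, herm_vE_vE, herm_vE_inW,
      herm_inW_vE, herm_inW, hw, mul_zero, add_zero]
  have hw' : herm C (inW w : Fin 2 ⊕ (Fin 2 ⊕ μ) → F) (inW w) = 0 := by rw [herm_inW, hw]
  set t := blockHom C (Fin 2 ⊕ μ) (uniEl C (0 : μ → F) (a * C.σ a * δ) (skew_valid C hsd))
  have htU : t ∈ U2 C p V := transv_e2_mem C p V hsd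
  have hv1 : IsTransv C (uniEl C w (-δ⁻¹) hc * t) ((-δ⁻¹) • vE C (Fin 2 ⊕ μ) + inW w) δ := by
    intro x
    rw [app_mul, hinner x, app_uniEl]
    simp only [herm_add_left, herm_smul_left, herm_inW_vE, herm_inW, hw, mul_zero, add_zero,
      herm_add_right, herm_smul_right, C.skew_eq (neg_mem (C.inv_mem hδ))]
    match_scalars <;> field_simp <;> ring
  have hne : ∀ u : F, u • vE C (Fin 2 ⊕ μ) + inW w ≠ 0 := fun u h0 => by
    have h2 := congrFun (eq_of_inW_add C (b := 0) (v := (0 : (Fin 2 ⊕ μ) → F))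
      (a := u) (u := w) (by rw [add_comm, h0, inW_zero, zero_smul, add_zero])).1
    have h3 : w = 0 := funext h2
    exact (smul_ne_zero ha (vE_ne C)) h3
  have h1 := transv_mem C p V hT hδ (hall hδ) hv1 hv (hne _)
    (mul_mem (uniEl_mem_sylG C _ w _ hc) htU)
  have h2 := transv_mem C p V hT hδ (hall hδ) hinner hw'
    (fun h0 => (smul_ne_zero ha (vE_ne C)) (inW_injective (h0.trans (inW_zero (κ := (Fin 2 ⊕ μ))).symm))) htU
  refine ⟨-δ⁻¹, hc, ?_⟩
  have h3 := mul_mem h1 (inv_mem h2)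
  rwa [mul_inv_cancel_right] at h3

include hT in
theorem app_mem_vecIn {w : (Fin 2 ⊕ μ) → F} (hw : w ∈ vecIn C T) (g : suG C (Fin 2 ⊕ μ)) : app C g w ∈ vecIn C T := by
  obtain ⟨c, hc, h⟩ := hw
  obtain ⟨hc', e⟩ := block_conj_uniEl C g w c hc
  refine ⟨c, hc', ?_⟩
  rw [← e]
  exact hT.2 _ h _ (e.symm ▸ uniEl_mem_sylG C _ _ _ _)

include hT in
theorem qGrp_le (hall : ∀ {d : F} (hd : d ∈ C.skew),
    uniEl C (0 : (Fin 2 ⊕ μ) → F) d (skew_valid C hd) ∈ T) : qGrp C (κ := (Fin 2 ⊕ μ)) ≤ T := by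
  have hvec : ∀ w : (Fin 2 ⊕ μ) → F, w ∈ vecIn C T := by
    obtain ⟨δ, hδ, hδ0⟩ := C.exists_skew_ne
    obtain ⟨g, -, hg⟩ := exists_move C (herm_vE_vE C (κ := μ))
      (y := δ • vF C μ) (by simp [herm_smul_left, herm_smul_right, herm_vF_vF])
      (by rw [herm_smul_right, herm_vE_vF, mul_one, C.skew_eq hδ]; exact neg_mem hδ)
      (by rw [herm_smul_right, herm_vE_vF, mul_one, C.skew_eq hδ]; exact neg_ne_zero.2 hδ0)
    have hf : ∀ a : F, a • vF C μ ∈ vecIn C T := fun a => by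
      have h := app_mem_vecIn C p V hT (smul_e_mem C p V hT hall (a / δ)) g
      rwa [app_smul, hg, smul_smul, div_mul_cancel₀ a hδ0] at h
    have hin : ∀ v : μ → F, inW v ∈ vecIn C T := fun v => by
      have hc : -(herm C v v * tA C) + C.σ (-(herm C v v * tA C)) + herm C v v = 0 := by
        rw [map_neg, map_mul, herm_self_fixed]
        linear_combination (-herm C v v) * tA_spec C
      have h := app_mem_vecIn C p V hT (hf 1) (uniEl C v _ hc)
      rw [one_smul, app_uniEl_vF] at h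
      have h2 := sub_mem (sub_mem h (hf 1)) (smul_e_mem C p V hT hall (-(herm C v v * tA C)))
      convert h2 using 1
      rw [one_smul]
      abel
    intro w
    rw [decomp C w]
    exact add_mem (add_mem (smul_e_mem C p V hT hall _) (hf _)) (hin _)
  rintro _ ⟨w, c, hc, rfl⟩
  obtain ⟨c', hc', h⟩ := hvec w
  have hd : c - c' ∈ C.skew := by
    rw [C.mem_skew, map_sub]; linear_combination hc - hc'
  have : uniEl C w c hc = uniEl C w c' hc' * uniEl C (0 : (Fin 2 ⊕ μ) → F) (c - c') (skew_valid C hd) := by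
    rw [uniEl_mul]
    exact uniEl_congr C _ _ (add_zero w).symm (by rw [herm_zero_left]; ring)
  rw [this]
  exact mul_mem h (hall hd)

end closed

/-- A nontrivial closed subgroup is everything. -/
theorem eq_bot_or_eq_of_closed (hV : (V : Subgroup (suG C μ)) ≤
      Subgroup.closure {x | x ∈ (V : Subgroup (suG C μ)) ∧ IsUniEl C x})
    {T : Subgroup (suG C (Fin 2 ⊕ (Fin 2 ⊕ μ)))} (hT : Closed (U2 C p V) T) : T = ⊥ ∨ T = U2 C p V := by
  by_cases hT0 : T = ⊥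
  · exact Or.inl hT0
  right
  obtain ⟨z, hzT, hz1, hzc⟩ := exists_central_of_closed (p := p)
    (show IsPGroup p (U2 C p V) from (sylU C p (sylU C p V)).isPGroup') hT hT0
  obtain ⟨d, hd, rfl⟩ := eq_central_of_commute C (hT.1 hzT)
    fun u hu => hzc u (qGrp_le_sylG C _ hu)
  have hd0 : d ≠ 0 := fun h => hz1 ((uniEl_congr C _ (by simp [herm_zero_left]) rfl h).trans (uniEl_zero C))
  have hQ := qGrp_le C p V hT (fun hd' => all_central_mem C p V hT hd hd0 hzT hd')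
  refine le_antisymm hT.1 ((sylG_le_closure C (sylG_le_closure C hV)).trans ?_)
  rw [Subgroup.closure_le]
  rintro x ⟨hxU, v, hv, hv0, hx⟩
  obtain ⟨g, -, hg⟩ := exists_to_vE C hv hv0
  have hy := hQ (mem_qGrp_of_isUniAt C (hg ▸ hx.conj C g))
  have he : g⁻¹ * (g * x * g⁻¹) * g⁻¹⁻¹ = x := by group
  have h2 := hT.2 _ hy g⁻¹ (he.symm ▸ hxU)
  rwa [he] at h2

end CfsgLib.FusionSimple.PSU
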