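/-
The normalizer of the Sylow subgroup of a unitary group is generated by basic elements.
-/
import Cfsg.Agent.FusionSimple.PSU.Closed

set_option autoImplicit false

namespace CfsgLib.FusionSimple.PSU

open Matrix CfsgLib.RepBounds.Unit

variable {F : Type*} [Field F] [Fintype F] (C : ConjField F) (p : ℕ) [hp : Fact p.Prime] [CharP F p]

section generation

variable {ι : Type*} [Fintype ι] [DecidableEq ι]

omit [CharP F p] in
/-- The subgroup generated by the `p`-elements. -/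
def pElts (G : Type*) [Group G] : Subgroup G := Subgroup.closure {x : G | ∃ k : ℕ, x ^ p ^ k = 1}

theorem transvs_le_pElts : transvs C ι ≤ pElts p (suG C ι) := by
  rw [transvs, Subgroup.closure_le]
  rintro g ⟨v, c, hv, -, h⟩
  exact Subgroup.subset_closure ⟨1, by rw [pow_one]; exact IsTransv.pow_char C p hv h⟩

theorem pElts_eq_top {μ : Type*} [Fintype μ] [DecidableEq μ] :
    pElts p (suG C (Fin 2 ⊕ μ)) = ⊤ := by
  by_cases h : Fintype.card (Fin 2 ⊕ μ) = 3 ∧ C.q = 2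
  swap
  · exact top_le_iff.1 ((transvs_eq_top C h).ge.trans (transvs_le_pElts C p))
  have hμ : Fintype.card μ = 1 := by
    have := h.1
    rw [Fintype.card_sum, Fintype.card_fin] at this
    omega
  have hsub : Subsingleton μ := Fintype.card_le_one_iff_subsingleton.1 hμ.le
  have hne : Nonempty μ := Fintype.card_pos_iff.1 (by omega)
  refine eq_top_iff.2 fun g _ => ?_
  obtain ⟨t, ht, hte⟩ := exists_to_vE C (x := app C g (vE C μ)) (by rw [herm_app, herm_vE_vE])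
    (app_ne_zero C g (vE_ne C))
  obtain ⟨w, c, hc, l, hl⟩ := exists_eq_uniEl_mul C (t * g) (by rw [app_mul, hte])
  rw [eq_one_of_subsingleton C l, map_one, mul_one] at hl
  rw [show g = t⁻¹ * uniEl C w c hc by rw [← hl, inv_mul_cancel_left]]
  exact mul_mem (inv_mem (transvs_le_pElts C p ht))
    (Subgroup.subset_closure ⟨2, by rw [pow_two]; exact uniEl_pow_char C p w c hc⟩)

end generation

variable {μ : Type*} [Fintype μ] [DecidableEq μ]

local notation "ee" => vE C (Fin 2 ⊕ μ)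

theorem herm_e2_vF : herm C (e2 C μ) (inW (vF C μ)) = 1 := by
  rw [e2, herm_inW, herm_vE_vF]

theorem e2_ne : (e2 C μ : Fin 2 ⊕ (Fin 2 ⊕ μ) → F) ≠ 0 := fun h =>
  vE_ne C (inW_injective (h.trans inW_zero.symm))

variable (V : Sylow p (suG C μ))

/-- Membership in the Sylow subgroup by the action on the flag. -/
theorem mem_U2_iff {x : suG C (Fin 2 ⊕ (Fin 2 ⊕ μ))} :
    x ∈ U2 C p V ↔ app C x ee = ee ∧ (∃ k : F, app C x (e2 C μ) = e2 C μ + k • ee) ∧
      ∃ v ∈ (V : Subgroup (suG C μ)), ∀ y y',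
        herm C (app C x (ii y)) (ii y') = herm C (app C v y) y' := by
  constructor
  · intro hx
    refine ⟨app_vE_of_mem C hx, ?_⟩
    obtain ⟨w, c, hc, l, hl, rfl⟩ := hx
    refine ⟨⟨-herm C (app C l (vE C μ)) w, by rw [e2, app_prod_inW, app_vE_of_mem C hl]⟩, ?_⟩
    obtain ⟨-, v, hv, h⟩ := (mem_sylG_iff C).1 hl
    exact ⟨v, hv, fun y y' => by rw [ii, ii, herm_prod_inW, h]⟩
  · rintro ⟨he, ⟨k, hk⟩, v, hv, h⟩
    obtain ⟨w, c, hc, l, rfl⟩ := exists_eq_uniEl_mul C x he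
    rw [e2, app_prod_inW] at hk
    exact ⟨w, c, hc, l, (mem_sylG_iff C).2 ⟨(eq_of_inW_add C hk).1, v, hv,
      fun y y' => by rw [← h, ii, ii, herm_prod_inW]⟩, rfl⟩

/-- The subgroup fixing the second point. -/
noncomputable def fixSub : Subgroup (suG C (Fin 2 ⊕ (Fin 2 ⊕ μ))) where
  carrier := {x | x ∈ U2 C p V ∧ app C x (e2 C μ) = e2 C μ}
  one_mem' := ⟨one_mem _, app_one C _⟩
  mul_mem' {a b} ha hb := ⟨mul_mem ha.1 hb.1, by rw [app_mul, hb.2, ha.2]⟩
  inv_mem' {a} ha := ⟨inv_mem ha.1, (congrArg (app C a⁻¹) ha.2).symm.trans (app_inv_app C a _)⟩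

theorem fix_inv {g : suG C (Fin 2 ⊕ (Fin 2 ⊕ μ))} (h : ∀ y, app C g (ii y) = ii y) (y : μ → F) :
    app C g⁻¹ (ii y) = ii y :=
  (congrArg (app C g⁻¹) (h y)).symm.trans (app_inv_app C g _)

/-- Elements acting inside the plane normalize the subgroup. -/
theorem conj_fixSub {g x : suG C (Fin 2 ⊕ (Fin 2 ⊕ μ))} (hg : ∀ y, app C g (ii y) = ii y)
    (h1 : ∃ a b : F, app C g⁻¹ ee = a • ee + b • e2 C μ)
    (h2 : ∃ a b : F, app C g⁻¹ (e2 C μ) = a • ee + b • e2 C μ) (hx : x ∈ fixSub C p V) :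
    g * x * g⁻¹ ∈ fixSub C p V := by
  obtain ⟨hxU, hx2⟩ := hx
  obtain ⟨hxe, -, v, hv, hxv⟩ := (mem_U2_iff C p V).1 hxU
  have hfix : ∀ z, (∃ a b : F, z = a • ee + b • e2 C μ) → app C x z = z := by
    rintro _ ⟨a, b, rfl⟩
    rw [app_add, app_smul, app_smul, hxe, hx2]
  have he : app C (g * x * g⁻¹) ee = ee := by
    rw [app_mul, app_mul, hfix _ h1, app_app_inv]
  have he2 : app C (g * x * g⁻¹) (e2 C μ) = e2 C μ := by
    rw [app_mul, app_mul, hfix _ h2, app_app_inv]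
  refine ⟨(mem_U2_iff C p V).2 ⟨he, ⟨0, by rw [he2, zero_smul, add_zero]⟩, v, hv, fun y y' => ?_⟩, he2⟩
  nth_rw 1 [← hg y']
  rw [app_mul, app_mul, fix_inv C hg, herm_app, hxv]

/-- The root element moving the second point along `e`. -/
noncomputable def eUp (s : F) : suG C (Fin 2 ⊕ (Fin 2 ⊕ μ)) :=
  uniEl C ((-C.σ s) • vF C μ) 0 (by rw [herm_smul_left, herm_smul_right, herm_vF_vF]; simp)

/-- The opposite root element. -/
noncomputable def eDown (s : F) : suG C (Fin 2 ⊕ (Fin 2 ⊕ μ)) :=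
  swapEl C μ * eUp C s * (swapEl C μ)⁻¹

theorem app_eUp_e (s : F) : app C (eUp C s) ee = ee := app_uniEl_vE C _ _ _

theorem app_eUp_e2 (s : F) : app C (eUp C s) (e2 C μ) = e2 C μ + s • ee := by
  rw [eUp, e2, app_uniEl_inW, herm_smul_right, herm_vE_vF, map_neg, C.invol, mul_one, neg_neg]

theorem app_eUp_ii (s : F) (y : μ → F) : app C (eUp C s) (ii y) = ii y := by
  rw [eUp, ii, app_uniEl_inW, herm_smul_right, herm_inW_vF, mul_zero, neg_zero, zero_smul, add_zero]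

theorem app_swap_e : app C (swapEl C μ) ee = e2 C μ := by
  show (pairSwap μ).permMatrix F *ᵥ _ = _
  rw [Matrix.permMatrix_mulVec]
  ext i
  rcases i with i | i | i
  · fin_cases i <;> simp [pairSwap, e2, inW, vE, Equiv.swap_apply_def]
  · fin_cases i <;> simp [pairSwap, e2, inW, vE, Equiv.swap_apply_def]
  · simp [pairSwap, e2, inW, vE, Equiv.swap_apply_def]

theorem app_swap_ii (y : μ → F) : app C (swapEl C μ) (ii y) = ii y := by
  show (pairSwap μ).permMatrix F *ᵥ _ = _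
  rw [Matrix.permMatrix_mulVec]
  ext i
  rcases i with i | i | i
  · fin_cases i <;> simp [pairSwap, ii, inW, Equiv.swap_apply_def]
  · fin_cases i <;> simp [pairSwap, ii, inW, Equiv.swap_apply_def]
  · simp [pairSwap, ii, inW, Equiv.swap_apply_def]

theorem app_swap_inv_e : app C (swapEl C μ)⁻¹ ee = e2 C μ :=
  (congrArg (app C (swapEl C μ)⁻¹) (app_swapEl_inW_vE C μ)).symm.trans (app_inv_app C _ _)

theorem app_swap_inv_e2 : app C (swapEl C μ)⁻¹ (e2 C μ) = ee :=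
  (congrArg (app C (swapEl C μ)⁻¹) (app_swap_e C)).symm.trans (app_inv_app C _ _)

theorem app_eDown_e (s : F) : app C (eDown C s) ee = ee + s • e2 C μ := by
  rw [eDown, app_mul, app_mul, app_swap_inv_e, app_eUp_e2, app_add, app_smul, app_swap_e]
  exact congrArg (· + s • e2 C μ) (app_swapEl_inW_vE C μ)

theorem app_eDown_e2 (s : F) : app C (eDown C s) (e2 C μ) = e2 C μ := by
  rw [eDown, app_mul, app_mul, app_swap_inv_e2, app_eUp_e, app_swap_e]

theorem app_eDown_ii (s : F) (y : μ → F) : app C (eDown C s) (ii y) = ii y := by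
  rw [eDown, app_mul, app_mul, fix_inv C (app_swap_ii C), app_eUp_ii, app_swap_ii]

theorem eUp_pow (s : F) : (eUp C s : suG C (Fin 2 ⊕ (Fin 2 ⊕ μ))) ^ p ^ 2 = 1 := by
  rw [pow_two]; exact uniEl_pow_char C p _ _ _

theorem eDown_pow (s : F) : (eDown C s : suG C (Fin 2 ⊕ (Fin 2 ⊕ μ))) ^ p ^ 2 = 1 := by
  rw [eDown, conj_pow, eUp_pow, mul_one, mul_inv_cancel]

omit [Fintype F] in
theorem orderOf_eq_pow {G : Type*} [Monoid G] {x : G} {k : ℕ} (h : x ^ p ^ k = 1) :
    ∃ j : ℕ, orderOf x = p ^ j := by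
  obtain ⟨j, -, hj⟩ := (Nat.dvd_prime_pow hp.out).1 (orderOf_dvd_of_pow_eq_one h)
  exact ⟨j, hj⟩

/-- A torus element moving `e` along its line, in the closure of the `p`-elements normalizing
`fixSub`. -/
theorem exists_torus {b : F} (hb : b ≠ 0) :
    ∃ t : suG C (Fin 2 ⊕ (Fin 2 ⊕ μ)), app C t ee = b • ee ∧ app C t (e2 C μ) = b⁻¹ • e2 C μ ∧
      (∀ y, app C t (ii y) = ii y) ∧
      t ∈ Subgroup.closure {y | y ∈ Subgroup.normalizer ((fixSub C p V : Subgroup _) : Set _) ∧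
        ∃ k : ℕ, orderOf y = p ^ k} := by
  set Y := {y : suG C (Fin 2 ⊕ (Fin 2 ⊕ μ)) |
    y ∈ Subgroup.normalizer ((fixSub C p V : Subgroup _) : Set _) ∧ ∃ k : ℕ, orderOf y = p ^ k}
  have key : ∀ g : suG C (Fin 2 ⊕ (Fin 2 ⊕ μ)), (∀ y, app C g (ii y) = ii y) →
      (∃ a b : F, app C g ee = a • ee + b • e2 C μ) →
      (∃ a b : F, app C g (e2 C μ) = a • ee + b • e2 C μ) →
      (∃ a b : F, app C g⁻¹ ee = a • ee + b • e2 C μ) →
      (∃ a b : F, app C g⁻¹ (e2 C μ) = a • ee + b • e2 C μ) →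
      g ^ p ^ 2 = 1 → g ∈ Y := by
    intro g hg h1 h2 h3 h4 hp2
    refine ⟨?_, orderOf_eq_pow p hp2⟩
    rw [Subgroup.mem_normalizer_iff]
    refine fun x => ⟨conj_fixSub C p V hg h3 h4, fun h => ?_⟩
    have := conj_fixSub C p V (g := g⁻¹) (fix_inv C hg) (by rwa [inv_inv]) (by rwa [inv_inv]) h
    simpa [mul_assoc] using this
  have hup : ∀ s : F, eUp C s ∈ Y := fun s => by
    refine key _ (app_eUp_ii C s) ⟨1, 0, by rw [app_eUp_e]; simp⟩
      ⟨s, 1, by rw [app_eUp_e2, one_smul, add_comm]⟩ ⟨1, 0, ?_⟩ ⟨-s, 1, ?_⟩ (eUp_pow C p s)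
    · rw [(congrArg (app C (eUp C s)⁻¹) (app_eUp_e C s)).symm.trans (app_inv_app C _ _)]; simp
    · have h : app C (eUp C s) ((-s) • ee + (1 : F) • e2 C μ) = e2 C μ := by
        rw [app_add, app_smul, app_smul, app_eUp_e, app_eUp_e2]; module
      exact (congrArg (app C (eUp C s)⁻¹) h).symm.trans (app_inv_app C _ _)
  have hdn : ∀ s : F, eDown C s ∈ Y := fun s => by
    refine key _ (app_eDown_ii C s) ⟨1, s, by rw [app_eDown_e, one_smul]⟩
      ⟨0, 1, by rw [app_eDown_e2]; simp⟩ ⟨1, -s, ?_⟩ ⟨0, 1, ?_⟩ (eDown_pow C p s)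
    · have h : app C (eDown C s) ((1 : F) • ee + (-s) • e2 C μ) = ee := by
        rw [app_add, app_smul, app_smul, app_eDown_e, app_eDown_e2]; module
      exact (congrArg (app C (eDown C s)⁻¹) h).symm.trans (app_inv_app C _ _)
    · rw [(congrArg (app C (eDown C s)⁻¹) (app_eDown_e2 C s)).symm.trans (app_inv_app C _ _)]; simp
  set M : F → suG C (Fin 2 ⊕ (Fin 2 ⊕ μ)) := fun c => eUp C c * eDown C (-c⁻¹) * eUp C c
  have hMe : ∀ c : F, c ≠ 0 → app C (M c) ee = (-c⁻¹) • e2 C μ := fun c hc => by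
    simp only [M, app_mul, app_eUp_e, app_eDown_e, app_add, app_smul, app_eUp_e2]
    match_scalars <;> field_simp <;> ring
  have hMe2 : ∀ c : F, c ≠ 0 → app C (M c) (e2 C μ) = c • ee := fun c hc => by
    simp only [M, app_mul, app_eUp_e2, app_eDown_e, app_eDown_e2, app_add, app_smul, app_eUp_e,
      app_eUp_e2]
    match_scalars <;> field_simp <;> ring
  refine ⟨M b * M (-1), ?_, ?_, fun y => ?_, ?_⟩
  · rw [app_mul, hMe _ (neg_ne_zero.2 one_ne_zero), app_smul, hMe2 b hb, smul_smul]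
    norm_num
  · rw [app_mul, hMe2 _ (neg_ne_zero.2 one_ne_zero), app_smul, hMe b hb, smul_smul]
    norm_num
  · simp only [M, app_mul, app_eUp_ii, app_eDown_ii]
  · have h : ∀ c, M c ∈ Subgroup.closure Y := fun c =>
      mul_mem (mul_mem (Subgroup.subset_closure (hup c)) (Subgroup.subset_closure (hdn _)))
        (Subgroup.subset_closure (hup c))
    exact mul_mem (h b) (h (-1))

theorem torus_mem_normalizer {t : suG C (Fin 2 ⊕ (Fin 2 ⊕ μ))} {a b : F} (ha : a ≠ 0) (hb : b ≠ 0)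
    (h1 : app C t ee = a • ee) (h2 : app C t (e2 C μ) = b • e2 C μ)
    (h3 : ∀ y, app C t (ii y) = ii y) :
    t ∈ Subgroup.normalizer ((U2 C p V : Subgroup _) : Set _) := by
  have key : ∀ (t : suG C (Fin 2 ⊕ (Fin 2 ⊕ μ))) (a b : F), a ≠ 0 → b ≠ 0 →
      app C t ee = a • ee → app C t (e2 C μ) = b • e2 C μ → (∀ y, app C t (ii y) = ii y) →
      ∀ x ∈ U2 C p V, t * x * t⁻¹ ∈ U2 C p V := by
    intro t a b ha hb h1 h2 h3 x hx
    obtain ⟨hxe, ⟨k, hk⟩, v, hv, hxv⟩ := (mem_U2_iff C p V).1 hx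
    have i1 : app C t⁻¹ ee = a⁻¹ • ee := by
      have h : app C t (a⁻¹ • ee) = ee := by rw [app_smul, h1, inv_smul_smul₀ ha]
      exact (congrArg (app C t⁻¹) h).symm.trans (app_inv_app C _ _)
    have i2 : app C t⁻¹ (e2 C μ) = b⁻¹ • e2 C μ := by
      have h : app C t (b⁻¹ • e2 C μ) = e2 C μ := by rw [app_smul, h2, inv_smul_smul₀ hb]
      exact (congrArg (app C t⁻¹) h).symm.trans (app_inv_app C _ _)
    refine (mem_U2_iff C p V).2 ⟨?_, ⟨b⁻¹ * k * a, ?_⟩, v, hv, fun y y' => ?_⟩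
    · rw [app_mul, app_mul, i1, app_smul, hxe, app_smul, h1, inv_smul_smul₀ ha]
    · rw [app_mul, app_mul, i2, app_smul, hk, app_smul, app_add, app_smul, h1, h2, smul_add,
        smul_smul, smul_smul, smul_smul, inv_mul_cancel₀ hb, one_smul, mul_assoc]
    · nth_rw 1 [← h3 y']
      rw [app_mul, app_mul, fix_inv C h3, herm_app, hxv]
  rw [Subgroup.mem_normalizer_iff]
  refine fun x => ⟨key t a b ha hb h1 h2 h3 x, fun h => ?_⟩
  have := key t⁻¹ a⁻¹ b⁻¹ (inv_ne_zero ha) (inv_ne_zero hb)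
    ((congrArg (app C t⁻¹) (show app C t (a⁻¹ • ee) = ee by
      rw [app_smul, h1, inv_smul_smul₀ ha])).symm.trans (app_inv_app C _ _))
    ((congrArg (app C t⁻¹) (show app C t (b⁻¹ • e2 C μ) = e2 C μ by
      rw [app_smul, h2, inv_smul_smul₀ hb])).symm.trans (app_inv_app C _ _))
    (fix_inv C h3) _ h
  simpa [mul_assoc] using this

/-- The normalizer of the Sylow subgroup is generated by basic elements. -/
theorem normalizer_le_closure :
    Subgroup.normalizer ((U2 C p V : Subgroup _) : Set (suG C (Fin 2 ⊕ (Fin 2 ⊕ μ)))) ≤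
      Subgroup.closure (basicElts p (U2 C p V)) := by
  intro y hy
  obtain ⟨a, ha, hya⟩ := line_of_normalizer C hy
  obtain ⟨t, ht1, ht2, ht3, htcl⟩ := exists_torus C p V (b := a) ha
  have htN := torus_mem_normalizer C p V ha (inv_ne_zero ha) ht1 ht2 ht3
  have hR' : t ∈ basicElts p (U2 C p V) := by
    refine ⟨htN, Or.inr (Or.inr ⟨fixSub C p V, fun x hx => hx.1, ?_, ?_, htcl⟩)⟩
    · intro u hu
      rw [Subgroup.mem_normalizer_iff]
      have key : ∀ {u x : suG C (Fin 2 ⊕ (Fin 2 ⊕ μ))}, u ∈ U2 C p V → x ∈ fixSub C p V →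
          u * x * u⁻¹ ∈ fixSub C p V := by
        intro u x hu hx
        refine ⟨mul_mem (mul_mem hu hx.1) (inv_mem hu), ?_⟩
        obtain ⟨-, ⟨k, hk⟩, -⟩ := (mem_U2_iff C p V).1 (inv_mem hu)
        rw [app_mul, app_mul, hk, app_add, app_smul, hx.2, app_vE_of_mem C hx.1, ← hk, app_app_inv]
      refine fun x => ⟨key hu, fun h => ?_⟩
      have := key (inv_mem hu) h
      simpa [mul_assoc] using this
    · rintro x ⟨hxU, hxc⟩
      refine ⟨hxU, ?_⟩
      obtain ⟨δ, hδ, hδ0⟩ := C.exists_skew_ne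
      set s := blockHom C (Fin 2 ⊕ μ) (uniEl C (0 : μ → F) δ (skew_valid C hδ))
      have hs : IsTransv C s (e2 C μ) δ := (isTransv_central C hδ).blockHom C
      have hsR : s ∈ fixSub C p V := ⟨transv_e2_mem C p V hδ, by
        rw [hs, e2, herm_inW, herm_vE_vE, mul_zero, zero_smul, add_zero]⟩
      have hc := Subgroup.mem_centralizer_iff.1 hxc s hsR
      have h := hs.conj C x
      rw [mul_inv_eq_iff_eq_mul.2 hc.symm] at h
      obtain ⟨l, hl⟩ := IsTransv.line_eq C hs h hδ0 (app_ne_zero C x (e2_ne C))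
      obtain ⟨-, ⟨k, hk⟩, -⟩ := (mem_U2_iff C p V).1 hxU
      have h2 := congrArg (fun z => herm C z (vF C (Fin 2 ⊕ μ))) (hk.symm.trans hl)
      simp only [herm_add_left, herm_smul_left, herm_vE_vF, e2, herm_inW_vF, mul_zero, mul_one,
        zero_add] at h2
      rw [hk, h2, zero_smul, add_zero]
  suffices h : t⁻¹ * y ∈ basicElts p (U2 C p V) by
    have := mul_mem (Subgroup.subset_closure hR') (Subgroup.subset_closure h)
    rwa [mul_inv_cancel_left] at this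
  have hfix : app C (t⁻¹ * y) ee = ee := by rw [app_mul, hya, ← ht1, app_inv_app]
  refine ⟨mul_mem (inv_mem htN) hy, Or.inr (Or.inr ⟨qGrp C, qGrp_le_sylG C _, ?_, ?_, ?_⟩)⟩
  · intro u hu
    rw [Subgroup.mem_normalizer_iff]
    refine fun x => ⟨conj_qGrp C (app_vE_of_mem C hu), fun h => ?_⟩
    have := conj_qGrp C (app_vE_of_mem C (inv_mem hu)) h
    simpa [mul_assoc] using this
  · rintro x ⟨hxU, hxc⟩
    obtain ⟨d, hd, rfl⟩ := eq_central_of_commute C hxU
      fun u hu => Subgroup.mem_centralizer_iff.1 hxc u hu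
    exact uniEl_mem_qGrp C _ _ _
  set Y := {g : suG C (Fin 2 ⊕ (Fin 2 ⊕ μ)) |
    g ∈ Subgroup.normalizer ((qGrp C (κ := Fin 2 ⊕ μ) : Subgroup _) : Set _) ∧
      ∃ k : ℕ, orderOf g = p ^ k}
  have hYmem : ∀ g, app C g ee = ee → (∃ k : ℕ, g ^ p ^ k = 1) → g ∈ Y := by
    rintro g hg ⟨k, hk⟩
    refine ⟨?_, orderOf_eq_pow p hk⟩
    rw [Subgroup.mem_normalizer_iff]
    refine fun x => ⟨conj_qGrp C hg, fun h => ?_⟩
    have := conj_qGrp C ((congrArg (app C g⁻¹) hg).symm.trans (app_inv_app C g _)) h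
    simpa [mul_assoc] using this
  obtain ⟨w, c, hc, l, hl⟩ := exists_eq_uniEl_mul C _ hfix
  rw [hl]
  refine mul_mem (Subgroup.subset_closure (hYmem _ (app_uniEl_vE C w c hc)
    ⟨2, by rw [pow_two]; exact uniEl_pow_char C p w c hc⟩)) ?_
  have h := Subgroup.mem_map_of_mem (blockHom C (Fin 2 ⊕ μ))
    ((pElts_eq_top C p).ge (Subgroup.mem_top l) : l ∈ pElts p (suG C (Fin 2 ⊕ μ)))
  rw [pElts, MonoidHom.map_closure] at h
  refine Subgroup.closure_mono ?_ h
  rintro _ ⟨g, ⟨k, hk⟩, rfl⟩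
  exact hYmem _ (app_block_vE C g) ⟨k, by rw [← map_pow, hk, map_one]⟩

end CfsgLib.FusionSimple.PSU
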