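/-
The fusion system of `PSU_n(q)`, `n ≥ 4`, in the defining characteristic is simple.
-/
import Cfsg.Agent.FusionSimple.PSU.Normalizer
import Cfsg.Agent.FusionSimple.CentralQuotient

set_option autoImplicit false

namespace CfsgLib.FusionSimple.PSU

open Cfsg CfsgLib.RepBounds.Unit

section transport

variable {G G' : Type*} [Group G] [Group G'] [Finite G] [Finite G'] {p : ℕ} [Fact p.Prime]

/-- The criterion is invariant under isomorphisms. -/
theorem isSimple_quotient_center_of_equiv (e : G ≃* G') (U : Sylow p G) (hne : (U : Subgroup G) ≠ ⊥)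
    (hZ : ∀ z ∈ Subgroup.center G, (∃ k : ℕ, z ^ p ^ k = 1) → z = 1)
    (ha : ∀ T : Subgroup G, Closed (U : Subgroup G) T → T = ⊥ ∨ T = (U : Subgroup G))
    (hb : Subgroup.normalizer ((U : Subgroup G) : Set G) ≤
      Subgroup.closure (basicElts p (U : Subgroup G)))
    (S : Sylow p (G' ⧸ Subgroup.center G')) :
    (groupFusionSystem (S : Subgroup (G' ⧸ Subgroup.center G'))).IsSimple p := by
  set U' := U.mapSurjective (f := e.toMonoidHom) e.surjective
  have hU' : (U' : Subgroup G') = (U : Subgroup G).map e.toMonoidHom := rfl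
  refine isSimple_quotient_center U' ?_ ?_ ?_ ?_ S
  · rw [hU']
    exact fun h => hne ((Subgroup.map_eq_bot_iff_of_injective _ e.injective).1 h)
  · intro z hz ⟨k, hk⟩
    have h1 : e.symm z ∈ Subgroup.center G := Subgroup.mem_center_iff.2 fun g => e.injective (by
      rw [map_mul, map_mul, e.apply_symm_apply, Subgroup.mem_center_iff.1 hz])
    have h2 := hZ _ h1 ⟨k, by rw [← map_pow, hk, map_one]⟩
    rw [← e.apply_symm_apply z, h2, map_one]
  · intro T hT
    rw [hU'] at hT ⊢
    have hmap : (T.comap e.toMonoidHom).map e.toMonoidHom = T :=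
      Subgroup.map_comap_eq_self_of_surjective e.surjective T
    rcases ha _ (closed_comap e hT) with h | h
    · left; rw [← hmap, h, Subgroup.map_bot]
    · right; rw [← hmap, h]
  · intro g hg
    rw [hU'] at hg ⊢
    have hg' : e.symm g ∈ Subgroup.normalizer ((U : Subgroup G) : Set G) := by
      rw [Subgroup.mem_normalizer_iff]
      intro u
      have h := Subgroup.mem_normalizer_iff.1 hg (e u)
      have hu : e.toMonoidHom (e.symm g * u * (e.symm g)⁻¹) = g * e u * g⁻¹ := by simp
      exact ((Subgroup.mem_map_iff_mem e.injective).symm.trans h).trans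
        (by rw [← hu]; exact Subgroup.mem_map_iff_mem e.injective)
    have h := Subgroup.mem_map_of_mem e.toMonoidHom (hb hg')
    rw [MonoidHom.map_closure] at h
    have he : e.toMonoidHom (e.symm g) = g := e.apply_symm_apply g
    rw [he] at h
    refine Subgroup.closure_mono ?_ h
    rintro _ ⟨y, hy, rfl⟩
    exact basicElts_map e hy

end transport

variable {F : Type*} [Field F] [Fintype F]

theorem isSimple_fusion_PSU (p q : ℕ) [Fact p.Prime] [CharP F p] (hF : Fintype.card F = q ^ 2)
    (n : ℕ) (hn : 4 ≤ n) (S : Sylow p (Cfsg.PSU n F q)) :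
    (groupFusionSystem (S : Subgroup (Cfsg.PSU n F q))).IsSimple p := by
  obtain ⟨C, rfl⟩ := exists_conjField q hF
  obtain ⟨k, rfl⟩ : ∃ k, n = 2 + (2 + k) := ⟨n - 4, by omega⟩
  let e₀ : Fin 2 ⊕ (Fin 2 ⊕ Fin k) ≃ Fin (2 + (2 + k)) :=
    (Equiv.sumCongr (Equiv.refl _) finSumFinEquiv).trans finSumFinEquiv
  let eR : suG C (Fin 2 ⊕ (Fin 2 ⊕ Fin k)) ≃* suG C (Fin (2 + (2 + k))) :=
    { reindexHom C e₀ with
      invFun := reindexHom C e₀.symm
      left_inv := fun g => suG_ext C fun x => by
        show app C (reindexHom C e₀.symm (reindexHom C e₀ g)) x = _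
        rw [app_reindexHom, app_reindexHom]
        simp [Function.comp_def]
      right_inv := fun g => suG_ext C fun x => by
        show app C (reindexHom C e₀ (reindexHom C e₀.symm g)) x = _
        rw [app_reindexHom, app_reindexHom]
        simp [Function.comp_def] }
  let e : suG C (Fin 2 ⊕ (Fin 2 ⊕ Fin k)) ≃* Cfsg.SU (2 + (2 + k)) F C.q :=
    eR.trans (MulEquiv.subgroupCongr (suG_fin_eq C _))
  let V : Sylow p (suG C (Fin k)) := default
  refine isSimple_quotient_center_of_equiv e (sylU C p (sylU C p V)) ?_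
    (fun z hz hk => eq_one_of_central C p hz hk)
    (fun T hT => eq_bot_or_eq_of_closed C p V (sylow_generated C p k V) hT)
    (normalizer_le_closure C p V) S
  intro h
  obtain ⟨δ, hδ, hδ0⟩ := C.exists_skew_ne
  have hm : uniEl C (0 : Fin 2 ⊕ Fin k → F) δ (skew_valid C hδ) ∈ U2 C p V := uniEl_mem_sylG C _ _ _ _
  rw [show U2 C p V = ⊥ from h, Subgroup.mem_bot] at hm
  have h2 := congrArg (fun g => herm C (app C g (vF C _)) (vF C _)) hm
  simp [app_uniEl_vF, app_one, inW_zero, herm_add_left, herm_smul_left, herm_vE_vF, herm_vF_vF] at h2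
  exact hδ0 h2

end CfsgLib.FusionSimple.PSU
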